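import Groth.Agent.MorLib.GeomLift
import Groth.Agent.MorLib.GeomFibre
import Groth.Agent.TwDescend.Components
import Groth.Prelude.Def_BigSite
import Mathlib.AlgebraicGeometry.Morphisms.FlatMono

/-! separated locally quasi-finite morphisms satisfy condition (A) -/

set_option autoImplicit false
set_option backward.isDefEq.respectTransparency false
set_option backward.isDefEq.respectTransparency.types false
universe u

open CategoryTheory CategoryTheory.Limits AlgebraicGeometry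
open Groth.Agent.MorLib

namespace Groth.Agent.PropA5

/-- Over an open subset all of whose points have exactly one preimage, counted geometrically,
a finite etale morphism is an isomorphism; here at one point. -/
theorem exists_open_isIso {Z P : Scheme.{u}} (q : Z ⟶ P) [IsFinite q] [Etale q]
    {Ω : Type u} [Field Ω] [IsAlgClosed Ω] (ε : Spec (CommRingCat.of Ω) ⟶ Z)
    (hu : ∀ ε', ε' ≫ q = ε ≫ q → ε' = ε) :
    ∃ G : P.Opens, (ε ≫ q) (IsLocalRing.closedPoint Ω) ∈ G ∧ IsIso (q ∣_ G) := by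
  have : IsFinite (pullback.fst q q ≫ q) := inferInstance
  let B : Set P := (pullback.fst q q ≫ q) '' (Set.range (pullback.diagonal q))ᶜ
  have hB : IsClosed B := (pullback.fst q q ≫ q).isClosedMap _
    (pullback.diagonal q).isOpenEmbedding.isOpen_range.isClosed_compl
  let G : P.Opens := ⟨Set.range q \ B, (q.isOpenMap.isOpen_range).sdiff hB⟩
  refine ⟨G, ⟨⟨_, rfl⟩, ?_⟩, ?_⟩
  · rintro ⟨z, hz, e⟩
    obtain ⟨l, hl, hlz⟩ := GF.exists_lift (pullback.fst q q ≫ q) (ε ≫ q) z e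
    have h₁ := hu (l ≫ pullback.fst q q) (by rw [Category.assoc, hl])
    have h₂ := hu (l ≫ pullback.snd q q) (by rw [Category.assoc, ← pullback.condition, hl])
    have el : l = ε ≫ pullback.diagonal q := by
      apply pullback.hom_ext <;> simp [h₁, h₂]
    refine hz ⟨ε (IsLocalRing.closedPoint Ω), ?_⟩
    rw [← hlz, el]
    rfl
  · have hmono : Mono (q ∣_ G) := by
      refine ⟨fun {T} a b hab => (cancel_mono (q ⁻¹ᵁ G).ι).1 ?_⟩
      have hab' : (a ≫ (q ⁻¹ᵁ G).ι) ≫ q = (b ≫ (q ⁻¹ᵁ G).ι) ≫ q := by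
        have := congr($hab ≫ G.ι)
        simpa only [Category.assoc, morphismRestrict_ι] using this
      let d := pullback.lift _ _ hab'
      have hd : Set.range d ⊆ Set.range (pullback.diagonal q) := by
        rintro _ ⟨t, rfl⟩
        by_contra hn
        have h1 : (pullback.fst q q ≫ q) (d t) ∈ G := by
          have : (pullback.fst q q ≫ q) (d t) = q ((a ≫ (q ⁻¹ᵁ G).ι) t) := by
            rw [← Scheme.Hom.comp_apply, ← Category.assoc, pullback.lift_fst]
            rfl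
          rw [this]
          exact (a t).2
        exact h1.2 ⟨_, hn, rfl⟩
      have hl := IsOpenImmersion.lift_fac (pullback.diagonal q) d hd
      have e1 : IsOpenImmersion.lift (pullback.diagonal q) d hd = a ≫ (q ⁻¹ᵁ G).ι := by
        rw [← Category.comp_id (IsOpenImmersion.lift (pullback.diagonal q) d hd),
          ← pullback.diagonal_fst q, ← Category.assoc, hl]
        exact pullback.lift_fst _ _ _
      have e2 : IsOpenImmersion.lift (pullback.diagonal q) d hd = b ≫ (q ⁻¹ᵁ G).ι := by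
        rw [← Category.comp_id (IsOpenImmersion.lift (pullback.diagonal q) d hd),
          ← pullback.diagonal_snd q, ← Category.assoc, hl]
        exact pullback.lift_snd _ _ _
      exact e1.symm.trans e2
    have : IsOpenImmersion (q ∣_ G) := IsOpenImmersion.of_flat_of_mono (q ∣_ G)
    have hs : Surjective (q ∣_ G) := ⟨fun x => by
      obtain ⟨z, hz⟩ := x.2.1
      exact ⟨⟨z, show q z ∈ G from hz.symm ▸ x.2⟩, Subtype.ext
        ((morphismRestrict_base_coe q G _).trans hz)⟩⟩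
    exact (isIso_iff_isOpenImmersion_and_epi_base _).2
      ⟨inferInstance, (TopCat.epi_iff_surjective _).2 hs.surj⟩

set_option maxHeartbeats 1000000 in
/-- A separated locally quasi-finite morphism satisfies condition (A). -/
theorem propA {X Y : Scheme.{u}} (f : X ⟶ Y) [IsSeparated f]
    [LocallyQuasiFinite f] [LocallyOfFiniteType f] : BigSite.PropA f := by
  intro U g _ u
  obtain ⟨Ω, _, _, γ, hγ⟩ := GF.exists_geomPoint u
  obtain ⟨V₁, g₁, v₁, W₁, δ₁, _, hv₁, hW₁, hδ₁f, hδ₁, hu₁⟩ :=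
    GL.exists_nbhd f (γ ≫ g) (f.quasiFiniteAt _)
  let p₁ : W₁.toScheme ⟶ X := W₁.ι ≫ pullback.fst f g₁
  let s₁ : W₁.toScheme ⟶ V₁ := W₁.ι ≫ pullback.snd f g₁
  have : IsFinite s₁ := hW₁
  let ε₁ : Spec (CommRingCat.of Ω) ⟶ pullback g p₁ := pullback.lift γ δ₁ hδ₁f.symm
  let m₁ : pullback g p₁ ⟶ V₁ := pullback.snd g p₁ ≫ s₁
  have : LocallyQuasiFinite (pullback.snd g p₁) := TwDescend.locallyQuasiFinite_of_etale _
  have : LocallyQuasiFinite m₁ := inferInstanceAs (LocallyQuasiFinite (pullback.snd g p₁ ≫ s₁))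
  obtain ⟨V₂, g₂, v₂, W₂, δ₂, _, hv₂, hW₂, hδ₂f, hδ₂, hu₂⟩ :=
    GL.exists_nbhd m₁ ε₁ (m₁.quasiFiniteAt _)
  let sP : pullback s₁ g₂ ⟶ V₂ := pullback.snd s₁ g₂
  let q : W₂.toScheme ⟶ pullback s₁ g₂ :=
    pullback.lift (W₂.ι ≫ pullback.fst m₁ g₂ ≫ pullback.snd g p₁) (W₂.ι ≫ pullback.snd m₁ g₂)
      (by
        simp only [Category.assoc]
        exact congrArg (W₂.ι ≫ ·) pullback.condition)
  have : IsFinite (q ≫ sP) := by
    rw [pullback.lift_snd]
    exact hW₂
  have : IsFinite q := IsFinite.of_comp q sP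
  have : Etale (q ≫ pullback.fst s₁ g₂) := by
    rw [pullback.lift_fst]
    infer_instance
  have : Etale q := Etale.of_comp q (pullback.fst s₁ g₂)
  have hvv : v₂ ≫ g₂ = v₁ := by
    rw [hv₂]
    simp only [m₁, ε₁, s₁]
    rw [pullback.lift_snd_assoc, hδ₁]
  -- the unique geometric point of `pullback s₁ g₂` over `v₂`
  have huP : ∀ a : Spec (CommRingCat.of Ω) ⟶ pullback s₁ g₂, a ≫ sP = v₂ → a = δ₂ ≫ q := by
    intro a ha
    have key : ∀ b : Spec (CommRingCat.of Ω) ⟶ pullback s₁ g₂, b ≫ sP = v₂ →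
        b ≫ pullback.fst s₁ g₂ = δ₁ := fun b hb => hu₁ _ (by
      show (b ≫ pullback.fst s₁ g₂) ≫ s₁ = v₁
      rw [Category.assoc, pullback.condition, ← Category.assoc, hb, hvv])
    have hq : (δ₂ ≫ q) ≫ sP = v₂ := by
      rw [Category.assoc, pullback.lift_snd, hδ₂]
    exact pullback.hom_ext ((key a ha).trans (key _ hq).symm) (ha.trans hq.symm)
  obtain ⟨G, hG, _⟩ := exists_open_isIso q δ₂ (fun ε' h => hu₂ ε' (by
    have := congr($h ≫ sP)
    rw [Category.assoc, Category.assoc, pullback.lift_snd, hδ₂] at this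
    exact this))
  have : IsFinite sP := inferInstance
  let V₃ : V₂.Opens := ⟨(sP '' (G : Set ↥(pullback s₁ g₂))ᶜ)ᶜ,
    (sP.isClosedMap _ G.2.isClosed_compl).isOpen_compl⟩
  have hV₃ : ∀ x, sP x ∈ V₃ → x ∈ G := fun x hx => by
    by_contra hn
    exact hx ⟨x, hn, rfl⟩
  have hvV₃ : v₂ (IsLocalRing.closedPoint Ω) ∈ V₃ := by
    rintro ⟨x, hx, e⟩
    obtain ⟨a, ha, hax⟩ := GF.exists_lift sP v₂ x e
    refine hx ?_
    rw [← hax, huP a ha]
    exact hG
  let c : V₃.toScheme ⟶ V₁ := V₃.ι ≫ g₂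
  let v : V₃.toScheme ⟶ Y := c ≫ g₁
  let b : pullback f v ⟶ pullback f g₁ :=
    pullback.lift (pullback.fst f v) (pullback.snd f v ≫ c) (by simp [pullback.condition, v])
  have hcl : IsClosed (W₁ : Set ↥(pullback f g₁)) := by
    have : IsFinite W₁.ι := IsFinite.of_comp _ (pullback.snd f g₁)
    simpa using W₁.ι.isClosedMap.isClosed_range
  let l : (b ⁻¹ᵁ W₁).toScheme ⟶ pullback s₁ g₂ :=
    pullback.lift (b ∣_ W₁) ((b ⁻¹ᵁ W₁).ι ≫ pullback.snd f v ≫ V₃.ι) (by
      simp only [s₁]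
      rw [morphismRestrict_ι_assoc, pullback.lift_snd]
      simp [c])
  have hl : Set.range l ⊆ Set.range G.ι := by
    rintro _ ⟨x, rfl⟩
    rw [Scheme.Opens.range_ι]
    refine hV₃ _ ?_
    rw [← Scheme.Hom.comp_apply, pullback.lift_snd, ← Category.assoc, Scheme.Hom.comp_apply]
    exact Subtype.coe_prop _
  let h : (b ⁻¹ᵁ W₁).toScheme ⟶ U :=
    IsOpenImmersion.lift G.ι l hl ≫ inv (q ∣_ G) ≫ (q ⁻¹ᵁ G).ι ≫ W₂.ι ≫ pullback.fst m₁ g₂ ≫
      pullback.fst g p₁
  refine ⟨V₃.toScheme, v, inferInstance, b ⁻¹ᵁ W₁, hcl.preimage b.continuous, h, ?_, ?_⟩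
  · have e : W₂.ι ≫ pullback.fst m₁ g₂ ≫ pullback.fst g p₁ ≫ g =
        q ≫ pullback.fst s₁ g₂ ≫ p₁ := by
      simp only [q, pullback.lift_fst_assoc, Category.assoc, pullback.condition]
    simp only [h, Category.assoc]
    rw [e, ← morphismRestrict_ι_assoc q G, IsIso.inv_hom_id_assoc, IsOpenImmersion.lift_fac_assoc]
    simp only [l, p₁, pullback.lift_fst_assoc, morphismRestrict_ι_assoc, b, pullback.lift_fst]
  · let v₃ : Spec (CommRingCat.of Ω) ⟶ V₃.toScheme := IsOpenImmersion.lift V₃.ι v₂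
      (by rw [Scheme.Opens.range_ι]; exact GL.range_SpecField_subset v₂ _ hvV₃)
    have hv₃ : v₃ ≫ V₃.ι = v₂ := IsOpenImmersion.lift_fac _ _ _
    let x₀ : Spec (CommRingCat.of Ω) ⟶ pullback f v := pullback.lift (γ ≫ g) v₃ (by
      simp only [v, c, Category.assoc]
      rw [reassoc_of% hv₃, reassoc_of% hvv, hv₁, Category.assoc])
    have hx₀ : x₀ ≫ b = δ₁ ≫ W₁.ι := by
      apply pullback.hom_ext
      · simp [x₀, b, hδ₁f]
      · simp only [x₀, b, Category.assoc, pullback.lift_snd, pullback.lift_snd_assoc, hδ₁, c]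
        rw [reassoc_of% hv₃, hvv]
    let x : Spec (CommRingCat.of Ω) ⟶ (b ⁻¹ᵁ W₁).toScheme := IsOpenImmersion.lift (b ⁻¹ᵁ W₁).ι x₀
      (by
        rw [Scheme.Opens.range_ι]
        refine GL.range_SpecField_subset x₀ _ ?_
        show b (x₀ _) ∈ W₁
        rw [← Scheme.Hom.comp_apply, hx₀, Scheme.Hom.comp_apply]
        exact Subtype.coe_prop _)
    have hx : x ≫ (b ⁻¹ᵁ W₁).ι = x₀ := IsOpenImmersion.lift_fac _ _ _
    have hxl : x ≫ l = δ₂ ≫ q := huP _ (by
      simp only [l, sP, Category.assoc, pullback.lift_snd]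
      rw [reassoc_of% hx, pullback.lift_snd_assoc, hv₃])
    let y : Spec (CommRingCat.of Ω) ⟶ (q ⁻¹ᵁ G).toScheme :=
      x ≫ IsOpenImmersion.lift G.ι l hl ≫ inv (q ∣_ G)
    have hy : y ≫ (q ⁻¹ᵁ G).ι = δ₂ := hu₂ _ (by
      have : (y ≫ (q ⁻¹ᵁ G).ι) ≫ q = δ₂ ≫ q := by
        simp only [y, Category.assoc]
        rw [← morphismRestrict_ι, IsIso.inv_hom_id_assoc, IsOpenImmersion.lift_fac, hxl]
      have := congr($this ≫ sP)
      simp only [q, sP, Category.assoc, pullback.lift_snd, hδ₂] at this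
      simpa only [Category.assoc] using this)
    have hxh : x ≫ h = γ := by
      simp only [h]
      rw [show x ≫ IsOpenImmersion.lift G.ι l hl ≫ inv (q ∣_ G) ≫ (q ⁻¹ᵁ G).ι ≫ W₂.ι ≫
        pullback.fst m₁ g₂ ≫ pullback.fst g p₁ =
        (y ≫ (q ⁻¹ᵁ G).ι) ≫ W₂.ι ≫ pullback.fst m₁ g₂ ≫ pullback.fst g p₁ by
          simp only [y, Category.assoc], hy, reassoc_of% hδ₂f]
      exact pullback.lift_fst _ _ _
    refine ⟨x (IsLocalRing.closedPoint Ω), ?_⟩
    rw [← Scheme.Hom.comp_apply, hxh]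
    exact hγ

end Groth.Agent.PropA5
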